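import Mathlib.Algebra.Homology.ShortComplex.ShortExact
import Mathlib.Algebra.Homology.ShortComplex.Abelian
import Mathlib.CategoryTheory.Abelian.Refinements
import Mathlib.CategoryTheory.Subobject.Basic
import Mathlib.CategoryTheory.Subobject.Limits

/-!
# Three short exact sequences around a homology object
-/

set_option autoImplicit false
set_option linter.unusedSectionVars false

universe v u

open CategoryTheory CategoryTheory.Limits

namespace GrothLib.HomThree25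

variable {C : Type u} [Category.{v} C] [Abelian C] {A₁ A₂ A₃ B₂ C₁ C₂ C₃ : C}

/-- The data of the three short exact sequences. -/
structure Data (A₁ A₂ A₃ B₂ C₁ C₂ C₃ : C) where
  i₁ : A₁ ⟶ A₂
  p₁ : A₂ ⟶ A₃
  wA : i₁ ≫ p₁ = 0
  hA : (ShortComplex.mk i₁ p₁ wA).ShortExact
  i₂ : A₂ ⟶ B₂
  π₂ : B₂ ⟶ C₂
  wB : i₂ ≫ π₂ = 0
  hB : (ShortComplex.mk i₂ π₂ wB).ShortExact
  j : C₁ ⟶ C₂
  q : C₂ ⟶ C₃
  wC : j ≫ q = 0
  hC : (ShortComplex.mk j q wC).ShortExact
  w : (i₁ ≫ i₂) ≫ (π₂ ≫ q) = 0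
  h₂ : i₂ ≫ (π₂ ≫ q) = 0
  h₃ : (i₁ ≫ i₂) ≫ π₂ = 0

variable (D : Data A₁ A₂ A₃ B₂ C₁ C₂ C₃)

namespace Data

/-- The complex `A₁ → B₂ → C₃`. -/
abbrev T : ShortComplex C := ShortComplex.mk (D.i₁ ≫ D.i₂) (D.π₂ ≫ D.q) D.w

variable (f : A₃ ⟶ D.T.homology) (g : D.T.homology ⟶ C₁)

theorem toCycles_π_exact :
    (ShortComplex.mk D.T.toCycles D.T.homologyπ D.T.toCycles_comp_homologyπ).Exact :=
  ShortComplex.exact_of_g_is_cokernel _ D.T.homologyIsCokernel

theorem π_g_j (hg : g ≫ D.j = D.T.homologyι ≫ D.T.descOpcycles D.π₂ D.h₃) :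
    D.T.homologyπ ≫ g ≫ D.j = D.T.iCycles ≫ D.π₂ := by
  rw [hg, ShortComplex.homology_π_ι_assoc, ShortComplex.p_descOpcycles]

theorem shortExact
    (hf : D.p₁ ≫ f = D.T.liftCycles D.i₂ D.h₂ ≫ D.T.homologyπ)
    (hg : g ≫ D.j = D.T.homologyι ≫ D.T.descOpcycles D.π₂ D.h₃) :
    ∃ wfg : f ≫ g = 0, (ShortComplex.mk f g wfg).ShortExact := by
  have := D.hA.mono_f; have := D.hA.epi_g; have := D.hB.mono_f; have := D.hB.epi_g
  have := D.hC.mono_f; have := D.hC.epi_g
  have wfg : f ≫ g = 0 := by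
    rw [← cancel_epi D.p₁, ← cancel_mono D.j, reassoc_of% hf]
    simp only [Category.assoc, comp_zero, zero_comp, D.π_g_j g hg,
      ShortComplex.liftCycles_i_assoc, D.wB]
  refine ⟨wfg, { exact := ?_, mono_f := ?_, epi_g := ?_ }⟩
  · rw [ShortComplex.exact_iff_exact_up_to_refinements]
    intro A (x : A ⟶ D.T.homology) (hx : x ≫ g = 0)
    obtain ⟨A', π, _, y, hy⟩ := surjective_up_to_refinements_of_epi D.T.homologyπ x
    have hy0 : (y ≫ D.T.iCycles) ≫ D.π₂ = 0 := by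
      rw [Category.assoc, ← D.π_g_j g hg, ← reassoc_of% hy, reassoc_of% hx, zero_comp, comp_zero]
    obtain ⟨A'', π', _, w, hw⟩ := D.hB.exact.exact_up_to_refinements (y ≫ D.T.iCycles) hy0
    dsimp at w hw
    have hyw : π' ≫ y = w ≫ D.T.liftCycles D.i₂ D.h₂ := by
      rw [← cancel_mono D.T.iCycles]; simp [← hw]
    refine ⟨A'', π' ≫ π, inferInstance, w ≫ D.p₁, ?_⟩
    show (π' ≫ π) ≫ x = (w ≫ D.p₁) ≫ f
    rw [Category.assoc, hy, Category.assoc, hf, reassoc_of% hyw]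
  · refine Preadditive.mono_of_cancel_zero f (fun {A} (x : A ⟶ A₃) hx => ?_)
    obtain ⟨A', π, _, y, hy⟩ := surjective_up_to_refinements_of_epi D.p₁ x
    have hy0 : (y ≫ D.T.liftCycles D.i₂ D.h₂) ≫ D.T.homologyπ = 0 := by
      rw [Category.assoc, ← hf, ← reassoc_of% hy, hx, comp_zero]
    obtain ⟨A'', π', _, z, hz⟩ := D.toCycles_π_exact.exact_up_to_refinements _ hy0
    dsimp at z hz
    have hyz : π' ≫ y = z ≫ D.i₁ := by
      rw [← cancel_mono D.i₂]
      simpa [Category.assoc] using congrArg (fun t => t ≫ D.T.iCycles) hz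
    rw [← cancel_epi (π' ≫ π), Category.assoc, hy, reassoc_of% hyz, D.wA, comp_zero, comp_zero]
  · show Epi g
    rw [epi_iff_surjective_up_to_refinements]
    intro A c
    obtain ⟨A', π, _, b, hb⟩ := surjective_up_to_refinements_of_epi D.π₂ (c ≫ D.j)
    have hb0 : b ≫ D.T.g = 0 := by
      show b ≫ D.π₂ ≫ D.q = 0
      rw [← reassoc_of% hb, D.wC, comp_zero, comp_zero]
    refine ⟨A', π, inferInstance, D.T.liftCycles b hb0 ≫ D.T.homologyπ, ?_⟩
    rw [← cancel_mono D.j, Category.assoc, Category.assoc, Category.assoc, D.π_g_j g hg,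
      ShortComplex.liftCycles_i_assoc, hb]

/-- A subobject fitting in the 3 × 3 diagram determines the quotient row. -/
theorem quotientRow {P : C} (b : P ⟶ B₂) [Mono b] (a : A₁ ⟶ P) (c : P ⟶ C₁) (wac : a ≫ c = 0)
    (hac : (ShortComplex.mk a c wac).ShortExact) (ha : a ≫ b = D.i₁ ≫ D.i₂)
    (hc : c ≫ D.j = b ≫ D.π₂) :
    ∃ (a' : A₃ ⟶ cokernel b) (c' : cokernel b ⟶ C₃) (wac' : a' ≫ c' = 0),
      D.p₁ ≫ a' = D.i₂ ≫ cokernel.π b ∧ cokernel.π b ≫ c' = D.π₂ ≫ D.q ∧
      (ShortComplex.mk a' c' wac').ShortExact := by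
  have := D.hA.mono_f; have := D.hA.epi_g; have := D.hB.mono_f; have := D.hB.epi_g
  have := D.hC.mono_f; have := D.hC.epi_g
  have := hac.epi_g
  obtain ⟨a', ha'⟩ := CokernelCofork.IsColimit.desc' D.hA.gIsCokernel (D.i₂ ≫ cokernel.π b) (by
    show D.i₁ ≫ D.i₂ ≫ cokernel.π b = 0
    rw [← reassoc_of% ha, cokernel.condition, comp_zero])
  change D.p₁ ≫ a' = _ at ha'
  let c' : cokernel b ⟶ C₃ := cokernel.desc b (D.π₂ ≫ D.q) (by
    rw [← reassoc_of% hc, D.wC, comp_zero])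
  have wac' : a' ≫ c' = 0 := by
    rw [← cancel_epi D.p₁, reassoc_of% ha']
    simp [c', reassoc_of% D.wB]
  refine ⟨a', c', wac', ha', cokernel.π_desc _ _ _, { exact := ?_, mono_f := ?_, epi_g := ?_ }⟩
  · rw [ShortComplex.exact_iff_exact_up_to_refinements]
    intro A (x : A ⟶ cokernel b) (hx : x ≫ c' = 0)
    obtain ⟨A', π, _, y, hy⟩ := surjective_up_to_refinements_of_epi (cokernel.π b) x
    have hy0 : (y ≫ D.π₂) ≫ D.q = 0 := by
      have : cokernel.π b ≫ c' = D.π₂ ≫ D.q := cokernel.π_desc _ _ _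
      rw [Category.assoc, ← this, ← reassoc_of% hy, hx, comp_zero]
    obtain ⟨A'', π', _, v, hv⟩ := D.hC.exact.exact_up_to_refinements _ hy0
    dsimp at v hv
    obtain ⟨A''', π'', _, w, hw⟩ := surjective_up_to_refinements_of_epi c v
    have h0 : (π'' ≫ π' ≫ y - w ≫ b) ≫ D.π₂ = 0 := by
      rw [Preadditive.sub_comp, Category.assoc, Category.assoc, hv, Category.assoc, ← hc,
        ← reassoc_of% hw, sub_self]
    obtain ⟨A4, π₄, _, u', hu⟩ := D.hB.exact.exact_up_to_refinements _ h0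
    dsimp at u' hu
    refine ⟨A4, π₄ ≫ π'' ≫ π' ≫ π, inferInstance, u' ≫ D.p₁, ?_⟩
    show _ = (u' ≫ D.p₁) ≫ a'
    rw [Category.assoc u', ha', ← reassoc_of% hu]
    simp [hy]
  · refine Preadditive.mono_of_cancel_zero a' (fun {A} (x : A ⟶ A₃) hx => ?_)
    obtain ⟨A', π, _, y, hy⟩ := surjective_up_to_refinements_of_epi D.p₁ x
    have hy0 : (y ≫ D.i₂) ≫ cokernel.π b = 0 := by
      rw [Category.assoc, ← ha', ← reassoc_of% hy, hx, comp_zero]
    obtain ⟨A'', π', _, w, hw⟩ :=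
      (ShortComplex.exact_of_g_is_cokernel (ShortComplex.mk b (cokernel.π b) (cokernel.condition b))
        (cokernelIsCokernel b)).exact_up_to_refinements _ hy0
    dsimp at w hw
    have hwc : w ≫ c = 0 := by
      rw [← cancel_mono D.j, Category.assoc, hc, ← reassoc_of% hw, D.wB, zero_comp,
        comp_zero, comp_zero]
    obtain ⟨A''', π'', _, u', hu⟩ := hac.exact.exact_up_to_refinements w hwc
    dsimp at u' hu
    have hyu : π'' ≫ π' ≫ y = u' ≫ D.i₁ := by
      rw [← cancel_mono D.i₂]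
      simp only [Category.assoc]
      rw [hw, reassoc_of% hu, ha]
    rw [← cancel_epi (π'' ≫ π' ≫ π), Category.assoc, Category.assoc, hy, reassoc_of% hyu, D.wA,
      comp_zero, comp_zero]
  · exact epi_of_epi_fac (cokernel.π_desc b (D.π₂ ≫ D.q) _)

/-- The subobject attached to a section. -/
noncomputable abbrev Φ (s : C₁ ⟶ D.T.homology) : Subobject B₂ :=
  (Subobject.map D.T.iCycles).obj ((Subobject.pullback D.T.homologyπ).obj (imageSubobject s))

theorem Φ_eq (s : C₁ ⟶ D.T.homology) [Mono s] :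
    D.Φ s = Subobject.mk (pullback.snd s D.T.homologyπ ≫ D.T.iCycles) := by
  rw [Φ, imageSubobject_mono, Subobject.pullback_obj_mk (IsPullback.of_hasPullback s D.T.homologyπ),
    Subobject.map_mk]

theorem eq_of_Φ_eq (hg : g ≫ D.j = D.T.homologyι ≫ D.T.descOpcycles D.π₂ D.h₃)
    (s s' : C₁ ⟶ D.T.homology) (hs : s ≫ g = 𝟙 C₁) (hs' : s' ≫ g = 𝟙 C₁)
    (h : D.Φ s = D.Φ s') : s = s' := by
  have : Mono s := mono_of_mono_fac hs
  have : Mono s' := mono_of_mono_fac hs'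
  rw [D.Φ_eq, D.Φ_eq] at h
  let e := Subobject.isoOfMkEqMk _ _ h
  have he : e.hom ≫ pullback.snd s' D.T.homologyπ = pullback.snd s D.T.homologyπ := by
    rw [← cancel_mono D.T.iCycles, Category.assoc]
    exact Subobject.ofMkLEMk_comp h.le
  have h1 : pullback.fst s D.T.homologyπ = e.hom ≫ pullback.fst s' D.T.homologyπ := by
    have := congrArg (fun t => t ≫ g) (pullback.condition (f := s) (g := D.T.homologyπ))
    have h2 := congrArg (fun t => e.hom ≫ t ≫ g) (pullback.condition (f := s') (g := D.T.homologyπ))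
    simp only [Category.assoc, hs, hs', Category.comp_id] at this h2
    rw [this, h2, reassoc_of% he]
  rw [← cancel_epi (pullback.fst s D.T.homologyπ), pullback.condition, ← he, Category.assoc,
    ← pullback.condition, ← Category.assoc, ← h1]

theorem pullback_row (hg : g ≫ D.j = D.T.homologyι ≫ D.T.descOpcycles D.π₂ D.h₃)
    (s : C₁ ⟶ D.T.homology) (hs : s ≫ g = 𝟙 C₁) :
    ∃ (a : A₁ ⟶ pullback s D.T.homologyπ) (wac : a ≫ pullback.fst s D.T.homologyπ = 0),
      a ≫ pullback.snd s D.T.homologyπ ≫ D.T.iCycles = D.i₁ ≫ D.i₂ ∧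
      pullback.fst s D.T.homologyπ ≫ D.j =
        (pullback.snd s D.T.homologyπ ≫ D.T.iCycles) ≫ D.π₂ ∧
      (ShortComplex.mk a (pullback.fst s D.T.homologyπ) wac).ShortExact := by
  have := D.hA.mono_f; have := D.hB.mono_f; have := D.hC.mono_f
  have : Mono s := mono_of_mono_fac hs
  let a : A₁ ⟶ pullback s D.T.homologyπ :=
    pullback.lift 0 D.T.toCycles (by rw [zero_comp, D.T.toCycles_comp_homologyπ])
  have hac : a ≫ pullback.fst s D.T.homologyπ = 0 := pullback.lift_fst _ _ _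
  have hab : a ≫ pullback.snd s D.T.homologyπ ≫ D.T.iCycles = D.i₁ ≫ D.i₂ := by
    rw [← Category.assoc, show a ≫ pullback.snd s D.T.homologyπ = _ from pullback.lift_snd _ _ _,
      ShortComplex.toCycles_i]
  refine ⟨a, hac, hab, ?_, { exact := ?_, mono_f := ?_, epi_g := inferInstance }⟩
  · rw [Category.assoc, ← D.π_g_j g hg, ← pullback.condition_assoc, reassoc_of% hs]
  · rw [ShortComplex.exact_iff_exact_up_to_refinements]
    intro A (x : A ⟶ pullback s D.T.homologyπ) (hx : x ≫ pullback.fst s D.T.homologyπ = 0)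
    have h0 : (x ≫ pullback.snd s D.T.homologyπ) ≫ D.T.homologyπ = 0 := by
      rw [Category.assoc, ← pullback.condition, reassoc_of% hx, zero_comp]
    obtain ⟨A', π, _, z, hz⟩ := D.toCycles_π_exact.exact_up_to_refinements _ h0
    dsimp at z hz
    refine ⟨A', π, inferInstance, z, pullback.hom_ext ?_ ?_⟩
    · dsimp
      rw [Category.assoc, Category.assoc, hx, hac, comp_zero, comp_zero]
    · dsimp
      rw [Category.assoc, hz, Category.assoc,
        show a ≫ pullback.snd s D.T.homologyπ = _ from pullback.lift_snd _ _ _]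
  · exact mono_of_mono_fac hab

theorem subobjects_iff (hg : g ≫ D.j = D.T.homologyι ≫ D.T.descOpcycles D.π₂ D.h₃)
    (B₁ : Subobject B₂) :
    (∃ (a : A₁ ⟶ (B₁ : C)) (c : (B₁ : C) ⟶ C₁) (wac : a ≫ c = 0)
       (a' : A₃ ⟶ cokernel B₁.arrow) (c' : cokernel B₁.arrow ⟶ C₃) (wac' : a' ≫ c' = 0),
       a ≫ B₁.arrow = D.i₁ ≫ D.i₂ ∧ c ≫ D.j = B₁.arrow ≫ D.π₂ ∧
       (ShortComplex.mk a c wac).ShortExact ∧
       D.p₁ ≫ a' = D.i₂ ≫ cokernel.π B₁.arrow ∧ cokernel.π B₁.arrow ≫ c' = D.π₂ ≫ D.q ∧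
       (ShortComplex.mk a' c' wac').ShortExact) ↔
      ∃ s : C₁ ⟶ D.T.homology, s ≫ g = 𝟙 C₁ ∧ D.Φ s = B₁ := by
  have := D.hC.mono_f
  constructor
  · rintro ⟨a, c, wac, -, -, -, ha, hc, hac, -, -, -⟩
    have := hac.epi_g
    have hl : B₁.arrow ≫ D.T.g = 0 := by
      show B₁.arrow ≫ D.π₂ ≫ D.q = 0
      rw [← reassoc_of% hc, D.wC, comp_zero]
    let l := D.T.liftCycles B₁.arrow hl
    have hal : a ≫ l = D.T.toCycles := by
      rw [← cancel_mono D.T.iCycles, Category.assoc, ShortComplex.liftCycles_i, ha,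
        ShortComplex.toCycles_i]
    obtain ⟨s, hs⟩ := CokernelCofork.IsColimit.desc' hac.gIsCokernel (l ≫ D.T.homologyπ) (by
      show a ≫ l ≫ D.T.homologyπ = 0
      rw [reassoc_of% hal, D.T.toCycles_comp_homologyπ])
    change c ≫ s = _ at hs
    have hsg : s ≫ g = 𝟙 C₁ := by
      rw [← cancel_epi c, ← cancel_mono D.j, reassoc_of% hs, Category.comp_id, hc,
        Category.assoc, Category.assoc, D.π_g_j g hg, ShortComplex.liftCycles_i_assoc]
    have : Mono s := (IsSplitMono.mk' ⟨g, hsg⟩).mono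
    obtain ⟨a₀, w₀, hab₀, hc₀, hP⟩ := D.pullback_row g hg s hsg
    let e : (B₁ : C) ⟶ pullback s D.T.homologyπ := pullback.lift c l hs
    have he : e ≫ pullback.snd s D.T.homologyπ ≫ D.T.iCycles = B₁.arrow := by
      rw [← Category.assoc, show e ≫ pullback.snd s D.T.homologyπ = l from pullback.lift_snd _ _ _,
        ShortComplex.liftCycles_i]
    let φ : ShortComplex.mk a c wac ⟶ ShortComplex.mk a₀ (pullback.fst s D.T.homologyπ) w₀ :=
      { τ₁ := 𝟙 A₁
        τ₂ := e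
        τ₃ := 𝟙 C₁
        comm₁₂ := by
          dsimp
          rw [Category.id_comp, ← cancel_mono (pullback.snd s D.T.homologyπ ≫ D.T.iCycles),
            Category.assoc, he, hab₀, ha]
        comm₂₃ := by
          dsimp
          rw [Category.comp_id]
          exact pullback.lift_fst _ _ _ }
    have : IsIso φ.τ₁ := inferInstanceAs (IsIso (𝟙 A₁))
    have : IsIso φ.τ₃ := inferInstanceAs (IsIso (𝟙 C₁))
    have : IsIso φ.τ₂ := ShortComplex.isIso₂_of_shortExact_of_isIso₁₃' φ hac hP inferInstance inferInstance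
    have : IsIso e := this
    refine ⟨s, hsg, ?_⟩
    rw [D.Φ_eq]
    exact ((Subobject.mk_arrow B₁).symm.trans
      (Subobject.mk_eq_mk_of_comm B₁.arrow _ (asIso e) he)).symm
  · rintro ⟨s, hs, rfl⟩
    have : Mono s := mono_of_mono_fac hs
    obtain ⟨a₀, w₀, hab₀, hc₀, hP⟩ := D.pullback_row g hg s hs
    let e : (D.Φ s : C) ≅ pullback s D.T.homologyπ :=
      eqToIso (congrArg (fun X : Subobject B₂ => (X : C)) (D.Φ_eq s)) ≪≫ Subobject.underlyingIso _
    have he : e.hom ≫ pullback.snd s D.T.homologyπ ≫ D.T.iCycles = (D.Φ s).arrow := by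
      dsimp [e]
      rw [Category.assoc, Subobject.underlyingIso_hom_comp_eq_mk]
      exact Subobject.arrow_congr _ _ (D.Φ_eq s)
    have wac : (a₀ ≫ e.inv) ≫ e.hom ≫ pullback.fst s D.T.homologyπ = 0 := by simp [w₀]
    have hac : (ShortComplex.mk (a₀ ≫ e.inv) (e.hom ≫ pullback.fst s D.T.homologyπ) wac).ShortExact :=
      ShortComplex.shortExact_of_iso (S₁ := ShortComplex.mk a₀ (pullback.fst s D.T.homologyπ) w₀)
        (ShortComplex.isoMk (Iso.refl _) e.symm (Iso.refl _) (by simp) (by simp)) hP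
    have ha : (a₀ ≫ e.inv) ≫ (D.Φ s).arrow = D.i₁ ≫ D.i₂ := by
      rw [← he, Category.assoc, e.inv_hom_id_assoc, hab₀]
    have hc : (e.hom ≫ pullback.fst s D.T.homologyπ) ≫ D.j = (D.Φ s).arrow ≫ D.π₂ := by
      rw [Category.assoc, hc₀, ← Category.assoc, he]
    obtain ⟨a', c', wac', h1, h2, h3⟩ := D.quotientRow (D.Φ s).arrow _ _ wac hac ha hc
    exact ⟨_, _, wac, a', c', wac', ha, hc, hac, h1, h2, h3⟩

end Data

end GrothLib.HomThree25
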